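import Mathlib

/-!
# Fusion of a generator of a normal cyclic subgroup of a Sylow 2-subgroup
-/

set_option autoImplicit false

namespace Cfsg.Agent.H782.K5

variable {G : Type*} [Group G] [Finite G]

theorem isPGroup_mulAut {C : Type*} [Group C] [Finite C] [IsCyclic C] {n : ℕ} (hC : Nat.card C = 2 ^ n) :
    IsPGroup 2 (MulAut C) := by
  have h1 := IsCyclic.card_mulAut (G := C)
  rw [hC] at h1
  rcases Nat.eq_zero_or_pos n with rfl | hn
  · refine IsPGroup.of_card (n := 0) ?_
    simpa using h1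
  · refine IsPGroup.of_card (n := n - 1) ?_
    rw [h1, Nat.totient_prime_pow Nat.prime_two hn]
    simp

theorem exists_mem_sylow [Fact (Nat.Prime 2)] (P : Sylow 2 G) {r y : G} (hr : r ∈ (P : Subgroup G))
    (hn : ∀ s ∈ (P : Subgroup G), s * r * s⁻¹ ∈ Subgroup.zpowers r) (hy : y ∈ Subgroup.zpowers r)
    (hc : IsConj r y) : ∃ s ∈ (P : Subgroup G), s * r * s⁻¹ = y := by
  obtain ⟨g, hg⟩ := isConj_iff.1 hc
  set C := Subgroup.zpowers r with hC
  have key : ∀ t : G, t * r * t⁻¹ ∈ C → t ∈ Subgroup.normalizer (C : Set G) := by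
    intro t ht
    have h1 : C.map (MulAut.conj t).toMonoidHom ≤ C := by
      rw [Subgroup.map_le_iff_le_comap, hC, Subgroup.zpowers_le]
      simpa using ht
    have h2 : C.map (MulAut.conj t).toMonoidHom = C := by
      refine Subgroup.eq_of_le_of_card_ge h1 ?_
      rw [Nat.card_congr (C.equivMapOfInjective (MulAut.conj t).toMonoidHom (MulAut.conj t).injective).toEquiv]
    rw [Subgroup.mem_normalizer_iff]
    intro x
    constructor
    · intro hx
      rw [← h2]
      exact ⟨x, hx, by simp⟩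
    · intro hx
      have h3 : t * x * t⁻¹ ∈ C.map (MulAut.conj t).toMonoidHom := by rw [h2]; exact hx
      obtain ⟨z, hz, hz2⟩ := h3
      have : z = x := by simpa using hz2
      rw [← this]; exact hz
  have hPN : (P : Subgroup G) ≤ Subgroup.normalizer (C : Set G) := fun s hs => key s (hn s hs)
  have hgN : g ∈ Subgroup.normalizer (C : Set G) := key g (by rw [hg]; exact hy)
  obtain ⟨n, hcard⟩ : ∃ n, Nat.card C = 2 ^ n := by
    have h1 : IsPGroup 2 C := P.isPGroup'.to_le (by rw [hC, Subgroup.zpowers_le]; exact hr)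
    exact IsPGroup.iff_card.1 h1
  let f := (Subgroup.normalizerMonoidHom C)
  have hrange : IsPGroup 2 f.range := (isPGroup_mulAut hcard).to_subgroup _
  let PN : Sylow 2 (Subgroup.normalizer (C : Set G)) := P.subtype hPN
  have h2 := (PN.mapSurjective (f := f.rangeRestrict) f.rangeRestrict_surjective)
  have h3 : ((PN.mapSurjective (f := f.rangeRestrict) f.rangeRestrict_surjective : Sylow 2 f.range) : Subgroup f.range) = ⊤ := by
    have := (PN.mapSurjective (f := f.rangeRestrict) f.rangeRestrict_surjective).is_maximal' (Q := ⊤) (hrange.to_subgroup _) le_top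
    exact this.symm
  have h4 : (⟨f ⟨g, hgN⟩, ⟨_, rfl⟩⟩ : f.range) ∈ ((PN.mapSurjective (f := f.rangeRestrict) f.rangeRestrict_surjective : Sylow 2 f.range) : Subgroup f.range) := by
    rw [h3]; trivial
  obtain ⟨s, hs, hs2⟩ := h4
  have hsP : (s : G) ∈ (P : Subgroup G) := hs
  refine ⟨s, hsP, ?_⟩
  have h5 : f s = f ⟨g, hgN⟩ := congrArg Subtype.val hs2
  have h6 := congrArg (fun φ : MulAut C => ((φ ⟨r, Subgroup.mem_zpowers r⟩ : C) : G)) h5
  simp only [f, Subgroup.normalizerMonoidHom] at h6
  rw [← hg]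
  exact h6

end Cfsg.Agent.H782.K5
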