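import Cfsg.Agent.H782.K5.Count
import Cfsg.Agent.S4608
import Cfsg.Agent.S4544
import Cfsg.Agent.S4652
import Cfsg.Agent.SmallSimple.OrderEight

/-!
# `k(B₀) = 5`, `p = 2`, `|P : P'| = 4` implies `P` dihedral or quaternion of order 8
-/

set_option autoImplicit false

open Cfsg

namespace Cfsg.Agent.H782.K5

universe u

variable {G : Type u} [Group G] [Finite G] {M : Ideal AlgInt}

/-- **Main**: the order is 8. -/
theorem card_eq_eight (hM : IsPModular 2 M) (hk : Nat.card (principalBlock M G) = 5) (P : Sylow 2 G)
    (h4 : (commutator P).index = 4) : Nat.card P = 8 ∧ ¬ IsMulCommutative P := by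
  classical
  have : Fact (Nat.Prime 2) := ⟨Nat.prime_two⟩
  have := Fintype.ofFinite G
  have hD : IsDefectGroup 2 M (principalBlock M G) (P : Subgroup G) := (S4652.result 2 M hM _).2 ⟨P, rfl⟩
  have hB : IsPBlock M (principalBlock M G) := Cfsg.Agent.Blocks.PrincipalSection.isPBlock_principalBlock
  obtain ⟨n, hn⟩ := IsPGroup.iff_card.1 P.isPGroup'
  have hna : Nat.card P = 8 → ¬ IsMulCommutative P := by
    intro h8 hc
    have h1 : commutator P = ⊥ := by
      rw [commutator_def, Subgroup.commutator_eq_bot_iff_le_centralizer]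
      intro x _
      rw [Subgroup.mem_centralizer_iff]
      intro y _
      exact hc.is_comm.comm y x
    rw [h1, Subgroup.index_bot, h8] at h4
    omega
  have hdvd : 4 ∣ Nat.card P := h4 ▸ Subgroup.index_dvd_card _
  rcases Nat.lt_or_ge n 4 with h | h
  · have hn2 : 2 ≤ n := by
      by_contra hcon
      push Not at hcon
      interval_cases n <;> omega
    have h3 : n = 2 ∨ n = 3 := by omega
    rcases h3 with rfl | rfl
    · exfalso
      have h5 := S4544.result M hM _ hB _ hD ⊥ bot_le (by infer_instance) (by
        rw [Subgroup.relIndex_bot_left, hn]; norm_num)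
      rw [hk, hn] at h5
      omega
    · have h8 : Nat.card P = 8 := by rw [hn]; norm_num
      exact ⟨h8, hna h8⟩
  · exfalso
    have h5 := rank_add_four_le hM P h hn h4
    have h6 := H634.Cols.blockRank_pos (G := G) hM
    have h7 : blockRank 2 (principalBlock M G) = 1 := by omega
    rcases S4608.result 2 M hM _ hB _ hD h7 hk with h8 | h8
    · change Nat.card P = 5 at h8
      omega
    · have h9 : Nat.card P = 8 := h8.1
      have : 2 ^ 4 ≤ 2 ^ n := Nat.pow_le_pow_right (by norm_num) h
      omega

/-- **S4874 for `p = 2`, if `|P : P'| = 4`.** -/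
theorem two_of_index (hM : IsPModular 2 M) (hk : Nat.card (principalBlock M G) = 5) (P : Sylow 2 G)
    (h4 : (commutator P).index = 4) :
    Nonempty ((P : Subgroup G) ≃* DihedralGroup 4) ∨ Nonempty ((P : Subgroup G) ≃* QuaternionGroup 2) :=
  SmallSimple.OrderEight.dihedral_or_quaternion_of_card_eight (card_eq_eight hM hk P h4).1
    (card_eq_eight hM hk P h4).2

end Cfsg.Agent.H782.K5
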